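import Cfsg.Agent.Lib.Recog.FiFourTrans.Thirteen.Data
import Cfsg.Agent.Lib.Recog.FiFour.Nets
import Cfsg.Agent.Lib.Recog.FiFour.Bound
import Cfsg.Agent.Lib.Recog.FiFour.Aut.Moved
import Cfsg.Agent.Lib.Recog.FiThreeNorm.Checks13
import Cfsg.Agent.Lib.Recog.FiTypes.Packed

set_option autoImplicit false
set_option maxRecDepth 100000
set_option Elab.async false

/-! The element of order 13 fixes six points only: checks (owner: helper7). -/

namespace CfsgLib.Recog.FiFour.Local.Thirteen

open CfsgLib.Recog.BitPerm CfsgLib.Recog.FiFour CfsgLib.Recog.FiTypes CfsgLib.Recog.FiFour.Aut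

/-- The square of the element, as a short word. -/
def xW : List ℕ := [2, 4, 7, 5, 1, 0, 8, 3, 2, 4, 7, 5, 1, 0, 8, 3]

/-- The point of an index. -/
def pt (i : ℕ) : ℕ := pts.getD i 0

/-- The points left after the low planes, as a set. -/
noncomputable def leftSet : ℕ := allSet (fun i => left.getD i 0) 330

theorem letters_ok : xW.all (· < 10) = true := by decide +kernel

theorem low_step : coverOK (movedSeg 19 net xW 0 10) (2 ^ numPts - 1) leftSet = true := by
  unfold numPts; decide +kernel

theorem high_step : coverOK (movedSeg 19 net xW 10 9) leftSet (allSet pt 6) = true := by decide +kernel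

/-- A fixed point is a listed one. -/
theorem cover_fix {c : ℕ} (hc : c < numPts) (hM : (movedB 19 net xW).testBit c = false) :
    (allSet pt 6).testBit c = true := by
  have h1 : (2 ^ numPts - 1).testBit c = true := by rw [Nat.testBit_two_pow_sub_one, decide_eq_true hc]
  by_contra hne
  have hb : (allSet pt 6).testBit c = false := by simpa using hne
  have h2 := cover_elim high_step (movedSeg_bit hM 10 9 (by omega)) hb
  rw [cover_elim low_step (movedSeg_bit hM 0 10 (by omega)) h2] at h1
  exact Bool.false_ne_true h1

end CfsgLib.Recog.FiFour.Local.Thirteen
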