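import Cfsg.Agent.Lib.Recog.FiFourTrans.Thirteen.CheckCover
import Cfsg.Agent.Lib.Recog.FiThree.Aut.Main

set_option autoImplicit false
set_option maxRecDepth 100000
set_option Elab.async false

/-! The square of the element of order 13 as a short word (owner: helper7). -/

namespace CfsgLib.Recog.FiFour.Local.Thirteen

open Cfsg CfsgLib.Recog.BitPerm

theorem order_ok : idOK 15 FiThree.net (List.replicate 26 FiNorm.P13.cert.xWord).flatten = true := by decide +kernel

theorem half_eq : xW = (List.replicate 2 FiNorm.P13.cert.xWord).flatten := by decide +kernel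

theorem x_sq : FiThreeNorm.P13.lift.x ^ 2 = FiThree.word xW := by
  have h1 := FiThree.word_eq_one order_ok
  rw [FiThree.Aut.word_replicate] at h1
  show FiThree.word (List.replicate (FiNorm.P13.cert.p + 1) FiNorm.P13.cert.xWord).flatten ^ 2 = _
  rw [half_eq, FiThree.Aut.word_replicate, FiThree.Aut.word_replicate, ← pow_mul,
    show (FiNorm.P13.cert.p + 1) * 2 = 26 + 2 from rfl, pow_add, h1, one_mul]

end CfsgLib.Recog.FiFour.Local.Thirteen
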