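import Cfsg.Agent.Lib.Recog.FiFourTrans.Basic
import Cfsg.Agent.Lib.Recog.FiFourTrans.Thirteen.CheckCover
import Cfsg.Agent.Lib.Recog.FiFourTrans.Thirteen.Square

set_option autoImplicit false
set_option maxRecDepth 100000
set_option linter.style.haveILetI false

/-!
At most six transpositions of Fi24 centralise an element of order 13 (owner: helper7).
-/

namespace CfsgLib.Recog.FiFour.Local.Thirteen

open Cfsg CfsgLib.Recog.BitPerm CfsgLib.Recog.FiFour CfsgLib.Recog.FiFour.Aut
open CfsgLib.Recog.FiTypes (D24 mem_allSet)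

attribute [local instance] FiThree.finite_fi23' finite_fi24

/-- The element inside Fi23. -/
noncomputable abbrev x : Spor.Fi23 := FiThreeNorm.P13.lift.x

/-- The fixed set in the model. -/
def fixedSet : Set Spor.Fi24 :=
  D24 ∩ (Subgroup.centralizer (((Subgroup.zpowers x).map model.j : Subgroup Spor.Fi24) : Set Spor.Fi24) :
    Set Spor.Fi24)

theorem iota_x_sq : iota (x ^ 2) = word xW := by
  rw [x_sq, iota_word letters_ok, FiFour.signed, if_neg (by decide)]

/-- An element of a fixed member moves the base point to a listed point. -/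
theorem fixed_pt {y : Spor.Fi24} (hy : y ∈ fixedSet) : ∃ m : Spor.Fi24, y = m * gg 11 * m⁻¹ ∧
    ∃ i < 6, pt i = act m 0 := by
  obtain ⟨m, rfl⟩ := isConj_iff.1 hy.1
  have hc : act m 0 < numPts := act_lt m
  refine ⟨m, rfl, mem_allSet.1 (cover_fix hc (not_movedB netValid ?_))⟩
  rw [← act_word, ← iota_x_sq]
  exact comm_conj_iff.1 (Subgroup.mem_centralizer_iff.1 hy.2 _
    ⟨x ^ 2, Subgroup.npow_mem_zpowers _ _, rfl⟩)

theorem count_le : fixedSet.ncard ≤ 6 := by
  rw [← Nat.card_coe_set_eq]
  refine (Nat.card_le_card_of_injective (fun y : fixedSet =>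
    (⟨(fixed_pt y.2).choose_spec.2.choose, (fixed_pt y.2).choose_spec.2.choose_spec.1⟩ : Fin 6)) ?_).trans_eq
    (Nat.card_fin 6)
  intro y z e
  have e' := congrArg Fin.val e
  simp only at e'
  have hy := (fixed_pt y.2).choose_spec
  have hz := (fixed_pt z.2).choose_spec
  refine Subtype.ext ?_
  rw [hy.1, hz.1]
  refine conj_eq_of_pt ?_
  rw [← hy.2.choose_spec.2, ← hz.2.choose_spec.2, e']

end CfsgLib.Recog.FiFour.Local.Thirteen
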