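set_option autoImplicit false

/-! The transpositions of Fi24 centralising an element of order 13: data (owner: helper7). -/

namespace CfsgLib.Recog.FiFour.Local.Thirteen

/-- The fixed points. -/
def pts : List Nat := [0, 1547, 281215, 281264, 303250, 303251]

/-- The points left after the low planes. -/
def left : List Nat := [0, 1257, 1498, 1547, 1713, 1719, 2432, 2606, 3403, 3775, 3994, 4419, 5018, 5330, 5572, 6615, 7509, 7657, 7787, 9754, 11971, 12851, 13251, 14388, 15364, 15863, 16752, 17791, 19392, 19569, 19809, 24549, 24567, 25450, 27960, 29477, 29563, 31425, 31610, 31747, 32573, 33023, 33817, 34067, 34162, 34242, 34267, 34393, 34428, 35921, 37370, 37580, 37810, 39105, 42142, 45841, 48138, 48451, 50270, 52137, 53155, 53599, 56383, 59036, 59605, 59730, 64391, 64852, 65416, 66190, 66528, 68411, 68530, 70005, 71225, 71227, 72135, 72307, 72856, 75615, 75770, 76029, 76295, 77838, 78474, 78482, 78491, 80231, 81140, 81692, 82471, 83805, 85306, 86499, 87752, 88408, 88701, 89230, 90032, 91003, 91009, 91353, 91738, 92740, 92765, 96172, 98243, 100163, 100545, 100847, 101651, 102383, 102518, 102843, 103758, 104152, 105193, 105757, 106408, 108543, 109615,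 111396, 111700, 113920, 114776, 116643, 117099, 117224, 117625, 120198, 120865, 121867, 122406, 123988, 124652, 126323, 127195, 129104, 129216, 130108, 131776, 132330, 132615, 133412, 133921, 135855, 139994, 140193, 140703, 142545, 142899, 143303, 144892, 145758, 146390, 147535, 147934, 148775, 150211, 153589, 155996, 156839, 157167, 160400, 162910, 162980, 163071, 163358, 163647, 164023, 164338, 164827, 164838, 166198, 170491, 170762, 172609, 174409, 175166, 175266, 175446, 175890, 177229, 178560, 179414, 181755, 182354, 182593, 185721, 185851, 187562, 188507, 189584, 189963, 190606, 191120, 191518, 194578, 194954, 195469, 198185, 198252, 200651, 201232, 202816, 203643, 203732, 203942, 204100, 206351, 208328, 209723, 212665, 212726, 213676, 214096, 214888, 214933, 216615, 217122, 218732, 218737, 219157, 219573, 219912, 220018, 220052, 220527, 220571, 223268, 223615, 224517, 226056, 226469, 228575, 230112, 230209, 230687, 232354, 232476, 234035, 234823, 236076, 236587, 236808, 238629, 238965, 239148, 239427, 241058, 241464, 241867, 244067, 244606, 250291, 251219, 252805, 255375, 255391, 255542, 256702, 256784, 257054, 258978, 259461, 260944, 262718,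 263409, 263530, 264852, 265180, 265552, 265960, 266257, 266645, 268059, 268261, 268518, 268608, 269437, 272633, 272712, 272990, 274047, 274669, 274803, 275314, 277359, 277517, 278453, 280020, 280050, 280861, 281215, 281264, 284007, 286075, 286149, 286880, 287606, 288637, 289390, 289956, 289971, 290766, 292703, 294367, 294914, 295518, 295621, 296505, 296780, 298288, 298512, 298859, 298988, 299011, 299837, 300435, 300691, 300864, 301739, 301907, 302692, 302706, 302993, 303250, 303251, 304259, 304620]

end CfsgLib.Recog.FiFour.Local.Thirteen
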