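import Cfsg.Agent.Lib.Recog.FiFourTrans.Thirteen.Orbits
import Cfsg.Agent.Lib.Recog.FiFourTrans.Shape

set_option autoImplicit false
set_option linter.style.haveILetI false

/-!
The normaliser of a subgroup of order 13 in a model of Fi24 (owner: helper7).
-/

namespace CfsgLib.Recog.FiFour.Local.Thirteen

open Cfsg CfsgLib.Core

attribute [local instance] FiThree.finite_fi23'

local notation "H" => Cfsg.Spor.Fi23

variable {M : Type*} [Group M] {D : Set M}

/-- A subgroup containing `d` that meets the image of Fi23 in a given one. -/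
theorem card_inf_cd (S : Model D) {A : Subgroup M} {A0 : Subgroup H} (hd : S.d ∈ A)
    (h : ∀ u, S.j u ∈ A ↔ u ∈ A0) : Nat.card ↥(A ⊓ S.cd) = 2 * Nat.card A0 := by
  haveI := S.finite
  classical
  let g : Bool × A0 → ↥(A ⊓ S.cd) := fun q => cond q.1
    ⟨S.j q.2 * S.d, mul_mem ((h q.2).2 q.2.2) hd, S.mem_cd.2 ((S.comm_j q.2).symm.mul_left (Commute.refl _))⟩
    ⟨S.j q.2, (h q.2).2 q.2.2, S.mem_cd.2 (S.comm_j q.2).symm⟩
  have hg : Function.Bijective g := by
    refine ⟨?_, ?_⟩
    · rintro ⟨p, u⟩ ⟨q, v⟩ e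
      have e' : (g (p, u) : M) = g (q, v) := congrArg Subtype.val e
      cases p <;> cases q <;> simp only [g, cond_true, cond_false] at e'
      · exact Prod.ext rfl (Subtype.ext (S.j_inj e'))
      · exact absurd e'.symm (S.mul_d_notMem _ _)
      · exact absurd e' (S.mul_d_notMem _ _)
      · exact Prod.ext rfl (Subtype.ext (S.j_inj (mul_right_cancel e')))
    · rintro ⟨c, hcA, hc⟩
      rcases S.proj_spec ⟨c, hc⟩ with e | e
      · exact ⟨(false, ⟨_, (h _).1 (e ▸ hcA)⟩), Subtype.ext e.symm⟩
      · refine ⟨(true, ⟨_, (h _).1 ?_⟩), Subtype.ext e.symm⟩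
        have := mul_mem hcA hd
        have e' : c = S.j (S.proj ⟨c, hc⟩) * S.d := e
        rw [e', mul_assoc, S.d_sq, mul_one] at this
        exact this
  rw [← Nat.card_eq_of_bijective g hg, Nat.card_prod, Nat.card_eq_fintype_card (α := Bool), Fintype.card_bool]

/-- The facts in Fi23 used here. -/
structure Read13 (X0 : Subgroup H) : Prop where
  card : Nat.card X0 = 13
  conj : ∀ Y : Subgroup H, Nat.card Y = 13 → ∃ g, X0.map (MulAut.conj g).toMonoidHom = Y
  card_norm : Nat.card ↥(Subgroup.normalizer (X0 : Set H)) = 468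
  card_cent : Nat.card ↥(Subgroup.centralizer (X0 : Set H)) = 78

theorem card_map_inf (φ : M ≃* M) (A C : Subgroup M) :
    Nat.card ↥(A.map φ.toMonoidHom ⊓ C.map φ.toMonoidHom) = Nat.card ↥(A ⊓ C) := by
  rw [← Subgroup.map_inf _ _ _ φ.injective, Subgroup.card_map_of_injective φ.injective]

variable (S : Model D) {X0 : Subgroup H} (R : Read13 X0)
include S R

/-- A subgroup of order 13 centralised by a member is moved onto the standard one with that member going to `d`. -/
theorem exists_move {B : Subgroup M} (hB : Nat.card B = 13) {x : M} (hx : x ∈ D)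
    (hxB : x ∈ Subgroup.centralizer (B : Set M)) :
    ∃ h : M, h * S.d * h⁻¹ = x ∧ (X0.map S.j).map (MulAut.conj h).toMonoidHom = B := by
  obtain ⟨g, hg⟩ := S.conj x hx
  obtain ⟨B0, e, hcard⟩ := S.exists_conj_map hg hxB (by rw [hB]; decide)
  obtain ⟨u, hu⟩ := R.conj B0 (hcard.trans hB)
  refine ⟨g * S.j u, ?_, ?_⟩
  · rw [hg, show g * S.j u * S.d * (g * S.j u)⁻¹ = g * (S.j u * S.d * (S.j u)⁻¹) * g⁻¹ by group,
      ← (S.comm_j u).eq, mul_inv_cancel_right]
  · rw [← e, ← hu]
    simp only [Subgroup.map_map]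
    congr 1
    refine MonoidHom.ext fun v => ?_
    show g * S.j u * S.j v * (g * S.j u)⁻¹ = g * S.j (u * v * u⁻¹) * g⁻¹
    rw [map_mul, map_mul, map_inv]
    group

/-- The stabilisers of a member in the normaliser and in the centraliser. -/
theorem card_inf_member {B : Subgroup M} (hB : Nat.card B = 13) {x : M} (hx : x ∈ D)
    (hxB : x ∈ Subgroup.centralizer (B : Set M)) :
    Nat.card ↥(Subgroup.normalizer (B : Set M) ⊓ Subgroup.centralizer ({x} : Set M)) = 936 ∧
      Nat.card ↥(Subgroup.centralizer (B : Set M) ⊓ Subgroup.centralizer ({x} : Set M)) = 156 := by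
  obtain ⟨h, hhd, hhB⟩ := exists_move S R hB hx hxB
  have hcx : Subgroup.centralizer ({x} : Set M) = S.cd.map (MulAut.conj h).toMonoidHom := by
    rw [map_centralizer_set, Set.image_singleton]
    simp only [MulAut.conj_apply, hhd]
  subst hhB
  rw [hcx]
  constructor
  · rw [← Subgroup.map_equiv_normalizer_eq, card_map_inf,
      card_inf_cd S (S.d_mem_normalizer X0) (fun _ => S.mem_normalizer_map), R.card_norm]
  · have hd : S.d ∈ Subgroup.centralizer ((X0.map S.j : Subgroup M) : Set M) :=
      S.mem_centralizer_map.2 fun u _ => (S.comm_j u).symm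
    have hj : ∀ u, S.j u ∈ Subgroup.centralizer ((X0.map S.j : Subgroup M) : Set M) ↔
        u ∈ Subgroup.centralizer (X0 : Set H) := by
      intro u
      rw [S.mem_centralizer_map, Subgroup.mem_centralizer_iff]
      exact ⟨fun hu v hv => S.j_inj (by rw [map_mul, map_mul]; exact (hu v hv).eq),
        fun hu v hv => (show Commute v u from hu v hv).map S.j⟩
    rw [show Subgroup.centralizer (((X0.map S.j).map (MulAut.conj h).toMonoidHom : Subgroup M) : Set M) =
      (Subgroup.centralizer ((X0.map S.j : Subgroup M) : Set M)).map (MulAut.conj h).toMonoidHom by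
        rw [map_centralizer_set, Subgroup.coe_map]; rfl, card_map_inf, card_inf_cd S hd hj, R.card_cent]

/-- The normaliser of a subgroup of order 13 centralised by two pairs of members. -/
theorem quad_shape {a b c d : M} (Q : Quad D a b c d) {B : Subgroup M} (hB : Nat.card B = 13)
    (hBK : B ≤ Subgroup.centralizer ({a, b, c, d} : Set M))
    (hcount : (D ∩ (Subgroup.centralizer (B : Set M) : Set M)).ncard ≤ 6) :
    Subgroup.normalizer (B : Set M) ≤
        Subgroup.normalizer ((Subgroup.centralizer ({a, b, c, d} : Set M) : Subgroup M) : Set M) ∧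
      Nat.card ↥(Subgroup.centralizer ({a, b, c, d} : Set M) ⊓ Subgroup.normalizer (B : Set M)) = 78 ∧
      Subgroup.centralizer ({a, b, c, d} : Set M) ⊓ Subgroup.centralizer (B : Set M) = B ∧
      (((Subgroup.centralizer ({a, b, c, d} : Set M) ⊓ Subgroup.normalizer (B : Set M)) ⊔
        Subgroup.closure ({a, b, c, d} : Set M)).subgroupOf (Subgroup.normalizer (B : Set M))).index = 2 := by
  haveI := S.finite
  set K := Subgroup.centralizer ({a, b, c, d} : Set M) with hK
  set N := Subgroup.normalizer (B : Set M) with hN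
  set C := Subgroup.centralizer (B : Set M) with hC
  set P := D ∩ (C : Set M) with hP
  have hin : ∀ x ∈ ({a, b, c, d} : Set M), x ∈ C := fun x hx => Subgroup.mem_centralizer_iff.2 fun v hv =>
    (Subgroup.mem_centralizer_iff.1 (hBK hv) x hx).symm
  have haC := hin a (by simp)
  have hbC := hin b (by simp)
  have hcC := hin c (by simp)
  have hdC := hin d (by simp)
  have hPsix : Q.six = P := by
    refine Set.eq_of_subset_of_ncard_le ?_ (by rw [Q.six_ncard]; exact hcount) (Set.toFinite _)
    intro x hx
    refine ⟨Q.six_subset hx, ?_⟩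
    rcases hx with rfl | rfl | rfl | rfl | rfl | rfl
    exacts [haC, hdC, mul_mem (mul_mem haC hdC) haC, hbC, hcC, mul_mem (mul_mem hbC hcC) hbC]
  have hNP : ∀ n ∈ N, ∀ x ∈ P, n * x * n⁻¹ ∈ P := by
    intro n hn x hx
    refine ⟨Q.conj n x hx.1, Subgroup.mem_centralizer_iff.2 fun v hv => ?_⟩
    have hv' := (Subgroup.mem_normalizer_iff''.1 hn v).1 hv
    have e := Subgroup.mem_centralizer_iff.1 hx.2 _ hv'
    calc v * (n * x * n⁻¹) = n * ((n⁻¹ * v * n) * x) * n⁻¹ := by group
      _ = _ := by rw [e]; group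
  have hCN : C ≤ N := Subgroup.centralizer_le_normalizer _
  have hsixN : ∀ n ∈ N, ∀ x ∈ Q.six, n * x * n⁻¹ ∈ Q.six := fun n hn x hx => by
    rw [hPsix] at hx ⊢; exact hNP n hn x hx
  have habc : ∀ {L : Subgroup M}, C ≤ L → ∀ x ∈ ({a, b, c} : Set M), x ∈ L := by
    rintro L hL x (rfl | rfl | rfl)
    exacts [hL haC, hL hbC, hL hcC]
  obtain ⟨h936, h156⟩ := card_inf_member S R hB Q.ha haC
  have hk : Nat.card ↥(N ⊓ K) = 78 := by
    have := Q.card_stab (L := N) (habc hCN) hsixN
    rw [h936] at this
    change 936 = 12 * Nat.card ↥(N ⊓ K) at this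
    omega
  have hkC : Nat.card ↥(C ⊓ K) = 13 := by
    have := Q.card_stab (L := C) (habc le_rfl) fun n hn => hsixN n (hCN hn)
    rw [h156] at this
    change 156 = 12 * Nat.card ↥(C ⊓ K) at this
    omega
  have hBC : B ≤ C ⊓ K := by
    haveI : IsMulCommutative B := by
      haveI : Fact (Nat.Prime 13) := ⟨by norm_num⟩
      haveI : IsCyclic B := isCyclic_of_prime_card hB
      exact ⟨⟨fun p q => (IsCyclic.commGroup.mul_comm p q)⟩⟩
    exact le_inf (Subgroup.le_centralizer B) hBK
  have hKC : K ⊓ C = B := by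
    rw [inf_comm]
    exact (Subgroup.eq_of_le_of_card_ge hBC (by rw [hkC, hB])).symm
  have hcardN : Nat.card N = 6 * 936 := by
    rw [card_orbit N a P (fun n hn => hNP n hn a ⟨Q.ha, haC⟩) ?_, ← hPsix, Q.six_ncard, h936]
    intro y hy
    obtain ⟨g1, e1, hB1⟩ := exists_move S R hB Q.ha haC
    obtain ⟨g2, e2, hB2⟩ := exists_move S R hB hy.1 hy.2
    refine ⟨g2 * g1⁻¹, ?_, ?_⟩
    · rw [hN, Subgroup.mem_normalizer_iff]
      have hmap : B.map (MulAut.conj (g2 * g1⁻¹)).toMonoidHom = B := by
        conv_rhs => rw [← hB2]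
        rw [← hB1, Subgroup.map_map]
        congr 1
        refine MonoidHom.ext fun v => ?_
        show g2 * g1⁻¹ * (g1 * v * g1⁻¹) * (g2 * g1⁻¹)⁻¹ = g2 * v * g2⁻¹
        group
      intro v
      conv_rhs => rw [← hmap]
      exact (Subgroup.mem_map_iff_mem (MulEquiv.injective _)).symm
    · rw [← e1, ← e2]; group
  have hNK : N ≤ Subgroup.normalizer ((K : Subgroup M) : Set M) := by
    have hKsix : K = Subgroup.centralizer Q.six := by
      refine le_antisymm (fun g hg => Subgroup.mem_centralizer_iff.2 fun x hx => ?_)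
        (Subgroup.centralizer_le (by intro x hx; rcases hx with rfl | rfl | rfl | rfl <;> simp [Quad.six]))
      have h' : ∀ y ∈ ({a, b, c, d} : Set M), Commute y g := fun y hy => Subgroup.mem_centralizer_iff.1 hg y hy
      have ha := h' a (by simp)
      have hb := h' b (by simp)
      have hc := h' c (by simp)
      have hd := h' d (by simp)
      rcases hx with rfl | rfl | rfl | rfl | rfl | rfl
      exacts [ha.eq, hd.eq, ((ha.mul_left hd).mul_left ha).eq, hb.eq, hc.eq, ((hb.mul_left hc).mul_left hb).eq]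
    intro n hn
    rw [hKsix]
    refine Subgroup.mem_normalizer_fintype fun g hg => Subgroup.mem_centralizer_iff.2 fun x hx => ?_
    have hx' := hsixN n⁻¹ (inv_mem hn) x hx
    rw [inv_inv] at hx'
    have e := Subgroup.mem_centralizer_iff.1 hg _ hx'
    calc x * (n * g * n⁻¹) = n * ((n⁻¹ * x * n) * g) * n⁻¹ := by group
      _ = _ := by rw [e]; group
  refine ⟨hNK, by rw [inf_comm]; exact hk, hKC, ?_⟩
  -- the group generated by the kernel and the members
  set T := Subgroup.closure ({a, b, c, d} : Set M) with hT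
  set L := (K ⊓ N) ⊔ T with hL
  have hTN : T ≤ N := by rw [hT, Subgroup.closure_le]; exact fun x hx => hCN (hin x hx)
  have hLN : L ≤ N := sup_le inf_le_right hTN
  have hTL : ∀ x ∈ ({a, b, c, d} : Set M), x ∈ L := fun x hx => Subgroup.mem_sup_right (Subgroup.subset_closure hx)
  have htrio : L ≤ Subgroup.normalizer ({a, d, a * d * a} : Set M) := by
    have hfix : ∀ g : M, (∀ x ∈ ({a, d, a * d * a} : Set M), Commute g x) →
        g ∈ Subgroup.normalizer ({a, d, a * d * a} : Set M) := by
      intro g hg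
      rw [Subgroup.mem_set_normalizer_iff]
      intro x
      constructor
      · intro hx; rwa [(hg x hx).eq, mul_inv_cancel_right]
      · intro hx
        have e := hg _ hx
        have : x = g * x * g⁻¹ := by
          calc x = g⁻¹ * ((g * x * g⁻¹) * g) := by group
            _ = g⁻¹ * (g * (g * x * g⁻¹)) := by rw [e.eq]
            _ = _ := by group
        rwa [this]
    have hswap : ∀ p q : M, p ∈ D → q ∈ D → ¬ Commute p q → ({p, q, p * q * p} : Set M) = {a, d, a * d * a} →
        p ∈ Subgroup.normalizer ({a, d, a * d * a} : Set M) := by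
      intro p q hp hq hpq e
      rw [← e]
      have p2 := sq_one Q.three hp
      have him : ∀ x ∈ ({p, q, p * q * p} : Set M), p * x * p⁻¹ ∈ ({p, q, p * q * p} : Set M) := by
        rw [inv_self Q.three hp]
        rintro x (rfl | rfl | rfl)
        · exact Or.inl (by rw [p2, one_mul])
        · exact Or.inr (Or.inr rfl)
        · refine Or.inr (Or.inl ?_)
          rw [show p * (p * q * p) * p = (p * p) * q * (p * p) by group, p2, one_mul, mul_one]
      rw [Subgroup.mem_set_normalizer_iff]
      intro x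
      refine ⟨him x, fun hx => ?_⟩
      have := him _ hx
      rwa [inv_self Q.three hp, show p * (p * x * p) * p = (p * p) * x * (p * p) by group, p2, one_mul, mul_one] at this
    refine sup_le (fun g hg => hfix g fun x hx => ?_) ?_
    · have h' : ∀ y ∈ ({a, b, c, d} : Set M), Commute g y := fun y hy =>
        (Subgroup.mem_centralizer_iff.1 hg.1 y hy).symm
      rcases hx with e | e | e <;> rw [e]
      exacts [h' a (by simp), h' d (by simp), ((h' a (by simp)).mul_right (h' d (by simp))).mul_right (h' a (by simp))]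
    · rw [hT, Subgroup.closure_le]
      rintro x (rfl | rfl | rfl | rfl)
      · exact hswap _ _ Q.ha Q.hd Q.had rfl
      · refine hfix _ ?_
        rintro y (rfl | rfl | rfl)
        exacts [Q.hab.symm, Q.hdb.symm, (Q.hab.symm.mul_right Q.hdb.symm).mul_right Q.hab.symm]
      · refine hfix _ ?_
        rintro y (rfl | rfl | rfl)
        exacts [Q.hac.symm, Q.hdc.symm, (Q.hac.symm.mul_right Q.hdc.symm).mul_right Q.hac.symm]
      · refine hswap _ _ Q.hd Q.ha (fun h => Q.had h.symm) ?_
        rw [← braid Q.three Q.ha Q.hd Q.had, Set.insert_comm]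
  have hcardL : Nat.card L = 3 * (12 * 78) := by
    rw [card_orbit L a {a, d, a * d * a} (fun n hn => Subgroup.le_set_normalizer_iff.1 htrio n hn a (by simp)) ?_,
      Q.card_stab (L := L) (fun x hx => hTL x (by rcases hx with rfl | rfl | rfl <;> simp))
        (fun n hn => hsixN n (hLN hn))]
    · have e : L ⊓ K = N ⊓ K := le_antisymm (inf_le_inf_right _ hLN)
        (le_inf (le_sup_of_le_left (by rw [inf_comm])) inf_le_right)
      rw [show L ⊓ Subgroup.centralizer ({a, b, c, d} : Set M) = N ⊓ K from e, hk]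
      congr 1
      rw [Set.ncard_eq_three]
      have hA := not_comm_conj Q.three Q.ha Q.had
      exact ⟨a, d, a * d * a, fun e => Q.had (e ▸ Commute.refl a), fun e => hA.1 (e ▸ Commute.refl a), hA.2.symm, rfl⟩
    · intro y hy
      have haL := hTL a (by simp)
      have hdL := hTL d (by simp)
      rcases hy with e | e | e <;> rw [e]
      · exact ⟨1, one_mem _, by group⟩
      · refine ⟨a * d, mul_mem haL hdL, ?_⟩
        rw [mul_inv_rev, inv_self Q.three Q.ha, inv_self Q.three Q.hd,
          show a * d * a * (d * a) = a * (d * a * d) * a by group, ← braid Q.three Q.ha Q.hd Q.had,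
          show a * (a * d * a) * a = (a * a) * d * (a * a) by group, sq_one Q.three Q.ha, one_mul, mul_one]
      · exact ⟨d, hdL, by rw [inv_self Q.three Q.hd, braid Q.three Q.ha Q.hd Q.had]⟩
  have hidx := Subgroup.card_mul_index (L.subgroupOf N)
  rw [Nat.card_congr (Subgroup.subgroupOfEquivOfLe hLN).toEquiv, hcardL, hcardN] at hidx
  omega

end CfsgLib.Recog.FiFour.Local.Thirteen
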