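import Cfsg.Agent.Lib.Recog.FiFourTrans.Thirteen.Count
import Cfsg.Agent.Lib.Recog.FiFourTrans.Thirteen.Shape
import Cfsg.Agent.Lib.Recog.FiFourTrans.Five.Main
import Cfsg.Agent.Lib.Recog.FiFourTrans.Eleven
import Cfsg.Agent.Lib.Recog.FiFourPair.Fi24Pair
import Cfsg.Agent.Lib.Recog.FiFourPair.Transfer

set_option autoImplicit false
set_option maxRecDepth 100000
set_option linter.style.haveILetI false

/-!
Subgroups of order 13 of Fi24 and their normalisers (owner: helper7).
-/

namespace CfsgLib.Recog.FiFour.Local.Thirteen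

open Cfsg CfsgLib.Core CfsgLib.Recog.FiFour CfsgLib.Recog.FiFour.Aut
open scoped Pointwise
open CfsgLib.Recog.FiTypes (D24)

attribute [local instance] FiThree.finite_fi23' finite_fi24

theorem read13 : Read13 (Subgroup.zpowers x) := by
  have h := FiThreeNorm.P13.ok
  obtain ⟨hsup, ⟨f⟩⟩ := FiThreeNorm.P13.shape
  have hSg : Nat.card FiThreeNorm.P13.lift.Sg = 6 := by
    rw [Nat.card_congr f.toEquiv, Nat.card_perm, Nat.card_fin]; rfl
  have hFn : FiThreeNorm.P13.lift.F ≤ Subgroup.normalizer (FiThreeNorm.P13.lift.Sg : Set Spor.Fi23) :=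
    le_trans (fun a ha => Subgroup.mem_centralizer_iff.2 fun y hy => (h.comm_F_Sg ha hy).symm)
      (Subgroup.centralizer_le_normalizer _)
  have hX : Nat.card (Subgroup.zpowers x) = 13 := h.card_X
  have hXF : Subgroup.zpowers x ≤ FiThreeNorm.P13.lift.F := le_sup_left
  refine ⟨hX, fun Y hY => h.conj_std FiThreeNorm.P13.conjBelow
    (by norm_num [FiThreeNorm.P13.lift, FiNorm.P13.cert]) hY, ?_, ?_⟩
  · show Nat.card ↥(Subgroup.normalizer ((FiThreeNorm.P13.lift.X : Subgroup Spor.Fi23) : Set Spor.Fi23)) = 468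
    rw [← hsup, card_sup_of_disjoint _ _ hFn h.F_inf_Sg, h.card_F, hSg]
    rfl
  · have hSgC : FiThreeNorm.P13.lift.Sg ≤ Subgroup.centralizer ((Subgroup.zpowers x : Subgroup Spor.Fi23) :
        Set Spor.Fi23) := fun w hw => Subgroup.mem_centralizer_iff.2 fun v hv => h.comm_F_Sg (hXF hv) hw
    have hC : Subgroup.centralizer ((Subgroup.zpowers x : Subgroup Spor.Fi23) : Set Spor.Fi23) =
        Subgroup.zpowers x ⊔ FiThreeNorm.P13.lift.Sg := by
      refine le_antisymm (fun c hc => ?_) (sup_le (Subgroup.le_centralizer _) hSgC)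
      have hcN := Subgroup.centralizer_le_normalizer _ hc
      change c ∈ Subgroup.normalizer ((FiThreeNorm.P13.lift.X : Subgroup Spor.Fi23) : Set Spor.Fi23) at hcN
      rw [← hsup] at hcN
      have hcN' := SetLike.mem_coe.2 hcN
      rw [Subgroup.coe_mul_of_left_le_normalizer_right _ _ hFn] at hcN'
      obtain ⟨a, ha, s, hs, rfl⟩ := hcN'
      refine mul_mem (Subgroup.mem_sup_left ?_) (Subgroup.mem_sup_right hs)
      have ha' : a ∈ FiThreeNorm.P13.lift.F ⊓ Subgroup.centralizer
          ((FiThreeNorm.P13.lift.X : Subgroup Spor.Fi23) : Set Spor.Fi23) :=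
        ⟨ha, by simpa using mul_mem hc (inv_mem (hSgC hs))⟩
      rwa [h.F_inf_centralizer] at ha'
    rw [hC, card_sup_of_disjoint _ _ (hXF.trans hFn)
      (le_bot_iff.1 ((inf_le_inf_right _ hXF).trans h.F_inf_Sg.le)), hX, hSg]

variable {G : Type*} [Group G] {D : Set G}

theorem count (e : Spor.Fi24 ≃* G) (he : e '' D24 = D) (B : Subgroup G) (hB : Nat.card B = 13) :
    (D ∩ (Subgroup.centralizer (B : Set G) : Set G)).ncard ≤ 6 := by
  set S := model.map e he
  obtain ⟨g, rfl⟩ := S.conj_std (by norm_num) (by decide) (by norm_num) read13.conj B hB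
  have h2 : (Subgroup.zpowers x).map S.j = ((Subgroup.zpowers x).map model.j).map e.toMonoidHom := by
    rw [Subgroup.map_map]; rfl
  rw [h2, Five.fixed_image (MulAut.conj g) D D _ (conj_image S g), Five.fixed_image e D24 D _ he,
    Set.ncard_image_of_injective _ (MulAut.conj g).injective, Set.ncard_image_of_injective _ e.injective]
  exact count_le

/-- The statement in a group identified with Fi24. -/
theorem thirteen (e : Spor.Fi24 ≃* G) (he : e '' D24 = D) :
    (∀ X Y : Subgroup G, Nat.card X = 13 → Nat.card Y = 13 → ∃ g : G, X.map (MulAut.conj g).toMonoidHom = Y) ∧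
    ∃ (a b c d : G) (T K : Subgroup G), (∀ y ∈ [a, b, c, d], y ∈ D) ∧ ¬ Commute a d ∧ ¬ Commute b c ∧
      Commute a b ∧ Commute a c ∧ Commute d b ∧ Commute d c ∧ T = Subgroup.closure ({a, b, c, d} : Set G) ∧
      K = Subgroup.centralizer (T : Set G) ∧ Nonempty (↥K ≃* ↥(Cfsg.Lie.chevG2.group (ZMod 3))) ∧
      ∀ B : Subgroup G, B ≤ K → Nat.card B = 13 →
        Subgroup.normalizer ((B : Subgroup G) : Set G) ≤ Subgroup.normalizer ((K : Subgroup G) : Set G) ∧
        Nat.card ↥(K ⊓ Subgroup.normalizer ((B : Subgroup G) : Set G)) = 78 ∧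
        K ⊓ Subgroup.centralizer ((B : Subgroup G) : Set G) = B ∧
        (((K ⊓ Subgroup.normalizer ((B : Subgroup G) : Set G)) ⊔ T).subgroupOf
          (Subgroup.normalizer ((B : Subgroup G) : Set G))).index = 2 := by
  haveI : Finite G := Finite.of_equiv _ e.toEquiv
  set S := model.map e he
  have h3 : IsThreeTranspositionSet D := by
    obtain ⟨h2, h23⟩ := FiTypes.class24.1
    rw [← he]
    refine ⟨?_, ?_⟩
    · rintro _ ⟨y, hy, rfl⟩; rw [MulEquiv.orderOf_eq]; exact h2 y hy
    · rintro _ ⟨y, hy, rfl⟩ _ ⟨w, hw, rfl⟩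
      rcases h23 y hy w hw with h | h
      · exact Or.inl (by rw [← map_mul, ← map_pow, h, map_one])
      · exact Or.inr (by rw [← map_mul, ← map_pow, h, map_one])
  refine ⟨S.conj_two (by norm_num) (by decide) (by norm_num) read13.conj, ?_⟩
  have hk : gg 10 ∈ D24 := FiTypes.gg_mem_D24 (by decide)
  have had : ¬ Commute (e (gg 11)) (e (gg 10)) := fun h =>
    FiTypes.not_commute_lk (show Commute (gg 11) (gg 10) from e.injective (by rw [map_mul, map_mul]; exact h.eq))
  have ha : e (gg 11) ∈ D := he ▸ ⟨_, mem_conjugatesOf_self, rfl⟩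
  have hd : e (gg 10) ∈ D := he ▸ ⟨_, hk, rfl⟩
  obtain ⟨P⟩ := FiFourPair.readoff_of_iso e he ha hd had
  obtain ⟨b1, c1, b, c, hmem, -, hbc, -, -, -, ⟨iso⟩⟩ := FiFourPair.Pair.readoff P h3
  obtain ⟨hb, hab, hdb⟩ := hmem b (by simp)
  obtain ⟨hc, hac, hdc⟩ := hmem c (by simp)
  set a := e (gg 11)
  set d := e (gg 10)
  have Q : Quad D a b c d :=
    ⟨S.conj_mem, h3, ha, hb, hc, hd, had, hbc, hab, hac, hdb, hdc⟩
  have hset : ({a, d, b, c} : Set G) = {a, b, c, d} := by
    ext y; simp only [Set.mem_insert_iff, Set.mem_singleton_iff]; tauto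
  rw [hset] at iso
  refine ⟨a, b, c, d, _, _, ?_, had, hbc, hab, hac, hdb, hdc, rfl, rfl, ?_, ?_⟩
  · intro y hy
    simp only [List.mem_cons, List.not_mem_nil, or_false] at hy
    rcases hy with e1 | e1 | e1 | e1 <;> rw [e1] <;> assumption
  · rw [Subgroup.centralizer_closure]; exact ⟨iso⟩
  · intro B hBK hB
    rw [Subgroup.centralizer_closure] at hBK ⊢
    exact quad_shape S read13 Q hB hBK (count e he B hB)

end CfsgLib.Recog.FiFour.Local.Thirteen
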