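import Cfsg.Agent.Lib.Recog.FiFourTrans.Central
import Cfsg.Agent.Lib.Core.Basic
import Cfsg.Prelude.Def_SporadicB

set_option autoImplicit false
set_option linter.style.haveILetI false

/-!
Counting in the normaliser of a subgroup centralised by two pairs of non-commuting transpositions (owner: helper7).
-/

namespace CfsgLib.Recog.FiFour.Local.Thirteen

open Cfsg

variable {M : Type*} [Group M]

/-- Orbit and stabiliser for conjugation. -/
theorem card_orbit (L : Subgroup M) (x : M) (O : Set M) (h : ∀ n ∈ L, n * x * n⁻¹ ∈ O)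
    (h' : ∀ y ∈ O, ∃ n ∈ L, n * x * n⁻¹ = y) :
    Nat.card L = O.ncard * Nat.card ↥(L ⊓ Subgroup.centralizer ({x} : Set M)) := by
  rw [Subgroup.card_eq_card_quotient_mul_card_subgroup ((Subgroup.centralizer ({x} : Set M)).subgroupOf L)]
  congr 1
  · rw [← Nat.card_coe_set_eq]
    have hwd : ∀ n m : L, n⁻¹ * m ∈ (Subgroup.centralizer ({x} : Set M)).subgroupOf L ↔
        (n : M) * x * (n : M)⁻¹ = (m : M) * x * (m : M)⁻¹ := by
      intro n m
      rw [Subgroup.mem_subgroupOf, Subgroup.mem_centralizer_singleton_iff, Subgroup.coe_mul, Subgroup.coe_inv]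
      constructor
      · intro e
        calc (n : M) * x * (n : M)⁻¹ = n * (x * ((n : M)⁻¹ * m)) * (m : M)⁻¹ := by group
          _ = n * (((n : M)⁻¹ * m) * x) * (m : M)⁻¹ := by rw [e]
          _ = _ := by group
      · intro e
        calc (n : M)⁻¹ * m * x = (n : M)⁻¹ * (m * x * (m : M)⁻¹) * m := by group
          _ = (n : M)⁻¹ * (n * x * (n : M)⁻¹) * m := by rw [e]
          _ = _ := by group
    refine Nat.card_congr (Equiv.ofBijective (fun q => Quotient.liftOn' q
      (fun n : L => (⟨(n : M) * x * (n : M)⁻¹, h n n.2⟩ : O))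
      fun n m e => Subtype.ext ((hwd n m).1 (QuotientGroup.leftRel_apply.1 e))) ⟨?_, ?_⟩)
    · intro q q'
      induction q using QuotientGroup.induction_on with
      | _ n =>
        induction q' using QuotientGroup.induction_on with
        | _ m => intro e; exact QuotientGroup.eq.2 ((hwd n m).2 (congrArg Subtype.val e))
    · rintro ⟨y, hy⟩
      obtain ⟨n, hn, e⟩ := h' y hy
      exact ⟨QuotientGroup.mk ⟨n, hn⟩, Subtype.ext e⟩
  · refine (Nat.card_congr (Subgroup.subgroupOfEquivOfLe (inf_le_right :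
      Subgroup.centralizer ({x} : Set M) ⊓ L ≤ L)).toEquiv).symm.trans ?_ |>.symm.trans ?_
    · rw [Subgroup.inf_subgroupOf_right]
    · rw [inf_comm]

/-- Two pairs of non-commuting transpositions centralising each other. -/
structure Quad (D : Set M) (a b c d : M) : Prop where
  conj : ∀ g : M, ∀ x ∈ D, g * x * g⁻¹ ∈ D
  three : IsThreeTranspositionSet D
  ha : a ∈ D
  hb : b ∈ D
  hc : c ∈ D
  hd : d ∈ D
  had : ¬ Commute a d
  hbc : ¬ Commute b c
  hab : Commute a b
  hac : Commute a c
  hdb : Commute d b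
  hdc : Commute d c

variable {D : Set M} {a b c d : M}

theorem sq_one (h : IsThreeTranspositionSet D) {x : M} (hx : x ∈ D) : x * x = 1 := by
  have := pow_orderOf_eq_one x
  rwa [h.1 x hx, pow_two] at this

theorem braid (h : IsThreeTranspositionSet D) {x y : M} (hx : x ∈ D) (hy : y ∈ D) (hnc : ¬ Commute x y) :
    x * y * x = y * x * y := by
  have x2 := sq_one h hx
  have y2 := sq_one h hy
  rcases h.2 x hx y hy with e | e
  · refine absurd ?_ hnc
    calc x * y = (x * y) ^ 2 * ((y⁻¹ * x⁻¹)) := by rw [pow_two]; group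
      _ = y⁻¹ * x⁻¹ := by rw [e, one_mul]
      _ = y * x := by rw [inv_eq_of_mul_eq_one_right x2, inv_eq_of_mul_eq_one_right y2]
  · calc x * y * x = (x * y) ^ 3 * (y⁻¹ * x⁻¹ * y⁻¹) := by rw [pow_succ, pow_two]; group
      _ = y⁻¹ * x⁻¹ * y⁻¹ := by rw [e, one_mul]
      _ = _ := by rw [inv_eq_of_mul_eq_one_right x2, inv_eq_of_mul_eq_one_right y2]

theorem inv_self (h : IsThreeTranspositionSet D) {x : M} (hx : x ∈ D) : x⁻¹ = x :=
  inv_eq_of_mul_eq_one_right (sq_one h hx)

/-- A member commutes with the conjugate it moves another to only trivially. -/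
theorem not_comm_conj (h : IsThreeTranspositionSet D) {x y : M} (hx : x ∈ D) (hnc : ¬ Commute x y) :
    ¬ Commute x (x * y * x) ∧ x * y * x ≠ y := by
  have x2 := sq_one h hx
  refine ⟨fun e => hnc ?_, fun e => hnc ?_⟩
  · refine Eq.symm ?_
    calc y * x = x * x * (y * x) := by rw [x2, one_mul]
      _ = x * (x * y * x) := by group
      _ = x * y * x * x := e.eq
      _ = x * y * (x * x) := by group
      _ = x * y := by rw [x2, mul_one]
  · calc x * y = x * y * (x * x) := by rw [x2, mul_one]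
      _ = x * y * x * x := by group
      _ = y * x := by rw [e]

namespace Quad

variable (Q : Quad D a b c d)
include Q

/-- The six members. -/
def six (_ : Quad D a b c d) : Set M := {a, d, a * d * a, b, c, b * c * b}

theorem symm : Quad D b a d c :=
  { conj := Q.conj, three := Q.three, ha := Q.hb, hb := Q.ha, hc := Q.hd, hd := Q.hc, had := Q.hbc, hbc := Q.had,
    hab := Q.hab.symm, hac := Q.hdb.symm, hdb := Q.hac.symm, hdc := Q.hdc.symm }

theorem ada_mem : a * d * a ∈ D := by
  have := Q.conj a d Q.hd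
  rwa [inv_self Q.three Q.ha] at this

theorem six_subset : Q.six ⊆ D := by
  have h1 := Q.ada_mem
  have h2 := Q.symm.ada_mem
  intro x hx
  rcases hx with rfl | rfl | rfl | rfl | rfl | rfl
  exacts [Q.ha, Q.hd, h1, Q.hb, Q.hc, h2]

theorem a_comm_bcb : Commute a (b * c * b) := (Q.hab.mul_right Q.hac).mul_right Q.hab

theorem six_ncard : Q.six.ncard = 6 := by
  have hA := not_comm_conj Q.three Q.ha Q.had
  have hB := not_comm_conj Q.three Q.hb Q.hbc
  have hbcb : Commute a (b * c * b) := Q.a_comm_bcb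
  have hada : Commute b (a * d * a) := Q.symm.a_comm_bcb
  have hdd : ¬ Commute d (a * d * a) := fun e => by
    rw [braid Q.three Q.ha Q.hd Q.had] at e
    exact (not_comm_conj Q.three Q.hd (fun h => Q.had h.symm)).1 e
  have n1 : a ∉ ({d, a * d * a, b, c, b * c * b} : Set M) := by
    rintro (e | e | e | e | e)
    · exact Q.had (e ▸ Commute.refl a)
    · exact hA.1 (e ▸ Commute.refl a)
    · exact Q.hbc (e ▸ Q.hac)
    · exact Q.hbc (e ▸ Q.hab.symm)
    · exact hB.1 (e ▸ Q.hab.symm)
  have n2 : d ∉ ({a * d * a, b, c, b * c * b} : Set M) := by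
    rintro (e | e | e | e)
    · exact hA.2 e.symm
    · exact Q.had (e ▸ Q.hab)
    · exact Q.had (e ▸ Q.hac)
    · exact Q.had (e ▸ hbcb)
  have n3 : a * d * a ∉ ({b, c, b * c * b} : Set M) := by
    rintro (e | e | e)
    · exact hA.1 (e ▸ Q.hab)
    · exact hA.1 (e ▸ Q.hac)
    · exact hA.1 (e ▸ hbcb)
  have n4 : b ∉ ({c, b * c * b} : Set M) := by
    rintro (e | e)
    · exact Q.hbc (e ▸ Commute.refl b)
    · exact hB.1 (e ▸ Commute.refl b)
  have n5 : c ∉ ({b * c * b} : Set M) := fun e => hB.2 (Set.mem_singleton_iff.1 e).symm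
  rw [six, Set.ncard_insert_of_notMem n1, Set.ncard_insert_of_notMem n2, Set.ncard_insert_of_notMem n3,
    Set.ncard_insert_of_notMem n4, Set.ncard_insert_of_notMem n5, Set.ncard_singleton]

/-- Four steps down from a subgroup acting on the six members. -/
theorem card_stab {L : Subgroup M} (hmem : ∀ x ∈ ({a, b, c} : Set M), x ∈ L)
    (hsix : ∀ n ∈ L, ∀ x ∈ Q.six, n * x * n⁻¹ ∈ Q.six) :
    Nat.card ↥(L ⊓ Subgroup.centralizer ({a} : Set M)) =
      12 * Nat.card ↥(L ⊓ Subgroup.centralizer ({a, b, c, d} : Set M)) := by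
  have hA := not_comm_conj Q.three Q.ha Q.had
  have hB := not_comm_conj Q.three Q.hb Q.hbc
  have hia := inv_self Q.three Q.ha
  have hib := inv_self Q.three Q.hb
  have hic := inv_self Q.three Q.hc
  have hbcb := Q.a_comm_bcb
  have hcm : ∀ {g h x : M}, g * x * g⁻¹ = x → g * h * g⁻¹ ∈ ({h, x} : Set M) → True := fun _ _ => trivial
  clear hcm
  have fixed : ∀ {g x : M}, g ∈ Subgroup.centralizer ({x} : Set M) → g * x * g⁻¹ = x := fun {g x} hg => by
    rw [Subgroup.mem_centralizer_singleton_iff.1 hg, mul_inv_cancel_right]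
  have comm_iff : ∀ (g x y : M), Commute (g * x * g⁻¹) (g * y * g⁻¹) ↔ Commute x y := fun g x y => by
    rw [← MulAut.conj_apply, ← MulAut.conj_apply]
    exact ⟨fun h => (MulAut.conj g).injective (by rw [map_mul, map_mul]; exact h.eq), fun h => h.map _⟩
  set L1 := L ⊓ Subgroup.centralizer ({a} : Set M) with hL1
  set L2 := L1 ⊓ Subgroup.centralizer ({d} : Set M) with hL2
  set L3 := L2 ⊓ Subgroup.centralizer ({b} : Set M) with hL3
  have e4 : L3 ⊓ Subgroup.centralizer ({c} : Set M) = L ⊓ Subgroup.centralizer ({a, b, c, d} : Set M) := by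
    ext g
    simp only [hL3, hL2, hL1, Subgroup.mem_inf, Subgroup.mem_centralizer_iff, Set.mem_singleton_iff,
      Set.mem_insert_iff, forall_eq_or_imp, forall_eq]
    tauto
  have h1 : Nat.card L1 = 2 * Nat.card L2 := by
    rw [card_orbit L1 d {d, a * d * a} ?_ ?_, Set.ncard_pair hA.2.symm]
    · intro n hn
      have hs := hsix n hn.1 d (Or.inr (Or.inl rfl))
      have hnc : ¬ Commute a (n * d * n⁻¹) := fun e => Q.had ((comm_iff n a d).1 (by rwa [fixed hn.2]))
      rcases hs with e | e | e | e | e | e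
      · exact absurd (e ▸ Commute.refl a) hnc
      · exact Or.inl e
      · exact Or.inr e
      · exact absurd (e ▸ Q.hab) hnc
      · exact absurd (e ▸ Q.hac) hnc
      · exact absurd (e ▸ hbcb) hnc
    · rintro y (rfl | rfl)
      · exact ⟨1, one_mem _, by group⟩
      · exact ⟨a, ⟨hmem a (Or.inl rfl), Subgroup.mem_centralizer_singleton_iff.2 rfl⟩, by rw [hia]⟩
  have hmem2 : ∀ x ∈ ({b, c} : Set M), x ∈ L2 := by
    intro x hx
    refine ⟨⟨hmem x (Or.inr hx), Subgroup.mem_centralizer_singleton_iff.2 ?_⟩,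
      Subgroup.mem_centralizer_singleton_iff.2 ?_⟩ <;> rcases hx with rfl | rfl
    exacts [Q.hab.symm.eq, Q.hac.symm.eq, Q.hdb.symm.eq, Q.hdc.symm.eq]
  have h2 : Nat.card L2 = 3 * Nat.card L3 := by
    rw [card_orbit L2 b {b, c, b * c * b} ?_ ?_]
    · congr 1
      rw [Set.ncard_eq_three]
      exact ⟨b, c, b * c * b, fun e => Q.hbc (e ▸ Commute.refl b), fun e => hB.1 (e ▸ Commute.refl b), hB.2.symm, rfl⟩
    · intro n hn
      have hs := hsix n hn.1.1 b (by simp [six])
      have hca : Commute a (n * b * n⁻¹) := by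
        have := (comm_iff n a b).2 Q.hab
        rwa [fixed hn.1.2] at this
      rcases hs with e | e | e | e | e | e
      · refine absurd ?_ (fun h : a = b => Q.hbc (h ▸ Q.hac))
        exact ((MulAut.conj n).injective (show n * b * n⁻¹ = n * a * n⁻¹ by rw [e, fixed hn.1.2])).symm
      · exact absurd (e ▸ hca) Q.had
      · exact absurd (e ▸ hca) hA.1
      · exact Or.inl e
      · exact Or.inr (Or.inl e)
      · exact Or.inr (Or.inr e)
    · intro y hy
      rcases hy with e | e | e <;> rw [e]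
      · exact ⟨1, one_mem _, by group⟩
      · refine ⟨b * c, mul_mem (hmem2 b (Or.inl rfl)) (hmem2 c (Or.inr rfl)), ?_⟩
        rw [mul_inv_rev, hib, hic, show b * c * b * (c * b) = b * (c * b * c) * b by group,
          ← braid Q.three Q.hb Q.hc Q.hbc, show b * (b * c * b) * b = (b * b) * c * (b * b) by group,
          sq_one Q.three Q.hb, one_mul, mul_one]
      · exact ⟨c, hmem2 c (Or.inr rfl), by rw [hic, ← braid Q.three Q.hb Q.hc Q.hbc]⟩
  have h3 : Nat.card L3 = 2 * Nat.card ↥(L3 ⊓ Subgroup.centralizer ({c} : Set M)) := by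
    rw [card_orbit L3 c {c, b * c * b} ?_ ?_, Set.ncard_pair hB.2.symm]
    · intro n hn
      have hs := hsix n hn.1.1.1 c (by simp [six])
      have hnc : ¬ Commute b (n * c * n⁻¹) := fun e => Q.hbc ((comm_iff n b c).1 (by rwa [fixed hn.2]))
      rcases hs with e | e | e | e | e | e
      · exact absurd (e ▸ Q.hab.symm) hnc
      · exact absurd (e ▸ Q.hdb.symm) hnc
      · exact absurd (e ▸ Q.symm.a_comm_bcb) hnc
      · exact absurd (e ▸ Commute.refl b) hnc
      · exact Or.inl e
      · exact Or.inr e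
    · rintro y (rfl | rfl)
      · exact ⟨1, one_mem _, by group⟩
      · exact ⟨b, ⟨hmem2 b (Or.inl rfl), Subgroup.mem_centralizer_singleton_iff.2 rfl⟩, by rw [hib]⟩
  rw [h1, h2, h3, e4]
  ring

end Quad

end CfsgLib.Recog.FiFour.Local.Thirteen
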